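import Groth.Agent.H4.EllGal.Basic
import Groth.Agent.H4.EtaleAtPoint
import Groth.Agent.H4.Chow.EtIsog
import Groth.Agent.Lib.SmoothCurve.Stalk
import Groth.Agent.Lib.Slicing.Locus
import Mathlib.RingTheory.Flat.TorsionFree
import Mathlib.RingTheory.Unramified.LocalRing

/-! A tangent vector detecting étaleness of homomorphisms between smooth group curves. -/

set_option autoImplicit false
set_option linter.style.haveILetI false

universe u

open CategoryTheory CategoryTheory.Limits MonoidalCategory CartesianMonoidalCategory AlgebraicGeometry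
open scoped MonObj GrpObj
open Groth.Agent.Lib

namespace Groth.Agent.H4.EllSum

noncomputable section

/-- The first Taylor coefficient at a rational point of a regular curve. -/
theorem exists_taylor {R k : Type u} [CommRing R] [IsDomain R] [IsDiscreteValuationRing R] [Field k]
    (κ : k →+* R) (π : R →+* k) (hπκ : ∀ c, π (κ c) = c) :
    ∃ g : R →+* DualNumber k, (∀ r, (g r).fst = π r) ∧ (∀ c, g (κ c) = TrivSqZeroExt.inl c) ∧
      ∀ r ∈ IsLocalRing.maximalIdeal R,
        ((g r).snd = 0 ↔ r ∈ IsLocalRing.maximalIdeal R * IsLocalRing.maximalIdeal R) := by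
  obtain ⟨t, ht⟩ := IsDiscreteValuationRing.exists_irreducible R
  have hm := ht.maximalIdeal_eq
  have hker : ∀ r, π r = 0 ↔ r ∈ IsLocalRing.maximalIdeal R := by
    intro r
    refine ⟨fun h => IsLocalRing.le_maximalIdeal (RingHom.ker_ne_top π) h, fun hr => ?_⟩
    by_contra hne
    have hu : IsUnit (κ (π r)) := (isUnit_iff_ne_zero.2 hne).map κ
    have h2 : r - κ (π r) ∈ IsLocalRing.maximalIdeal R :=
      IsLocalRing.le_maximalIdeal (RingHom.ker_ne_top π) (by rw [RingHom.mem_ker, map_sub, hπκ, sub_self])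
    have h3 : κ (π r) ∈ IsLocalRing.maximalIdeal R := by
      have := sub_mem hr h2
      rwa [sub_sub_cancel] at this
    exact (IsLocalRing.mem_maximalIdeal _).1 h3 hu
  have hex : ∀ r, ∃ s, r - κ (π r) = t * s := fun r => Ideal.mem_span_singleton.1
    (hm ▸ (hker _).1 (by rw [map_sub, hπκ, sub_self]))
  choose q hq using hex
  have ht0 : π t = 0 := (hker t).2 (hm ▸ Ideal.mem_span_singleton_self t)
  have hmul : ∀ r s, q (r * s) = q r * κ (π s) + q s * κ (π r) + t * (q r * q s) := fun r s =>
    mul_left_cancel₀ ht.ne_zero (by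
      rw [← hq, mul_add, mul_add, ← _root_.mul_assoc, ← hq r, ← _root_.mul_assoc, ← hq s,
        show t * (t * (q r * q s)) = (t * q r) * (t * q s) by ring, ← hq r, ← hq s, map_mul π, map_mul κ]
      ring)
  have hadd : ∀ r s, q (r + s) = q r + q s := fun r s => mul_left_cancel₀ ht.ne_zero (by
      rw [← hq, mul_add, ← hq r, ← hq s, map_add π, map_add κ]; ring)
  have hκ : ∀ c, q (κ c) = 0 := fun c => mul_left_cancel₀ ht.ne_zero (by
      rw [← hq, hπκ, sub_self, mul_zero])
  let g : R →+* DualNumber k :=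
    { toFun := fun r => TrivSqZeroExt.inl (π r) + TrivSqZeroExt.inr (π (q r))
      map_one' := by
        have := hκ 1
        rw [map_one] at this
        ext <;> simp [this]
      map_mul' := fun r s => by
        ext
        · simp
        · simp [hmul, TrivSqZeroExt.snd_mul, hπκ, ht0]; ring
      map_zero' := by
        have := hκ 0
        rw [map_zero] at this
        ext <;> simp [this]
      map_add' := fun r s => by ext <;> simp [hadd] }
  refine ⟨g, fun r => by simp [g], fun c => by ext <;> simp [g, hπκ, hκ], fun r hr => ?_⟩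
  have hr0 : π r = 0 := (hker r).2 hr
  have hrq : r = t * q r := by rw [← hq, hr0, map_zero, sub_zero]
  rw [show (g r).snd = π (q r) by simp [g], hker, hm, Ideal.span_singleton_mul_span_singleton,
    Ideal.mem_span_singleton, Ideal.mem_span_singleton]
  conv_rhs => rw [hrq]
  exact (mul_dvd_mul_iff_left ht.ne_zero).symm

variable {k : Type u} [Field k] [IsAlgClosed k]

/-- The homomorphism is etale everywhere once it is so near the unit. -/
theorem etale_of_etaleNear {E₁ E₂ : Over (Spec (CommRingCat.of k))} [GrpObj E₁] [GrpObj E₂]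
    [IsIntegral E₁.left] [IsProper E₁.hom] (f : E₁ ⟶ E₂) [IsMonHom f]
    (h : Slicing.Locus.EtaleNear f.left (η[E₁].left (IsLocalRing.closedPoint k))) : Etale f.left := by
  refine Slicing.Locus.etale_of_forall_etaleNear f.left ?_
  haveI : CompactSpace E₁.left := QuasiCompact.compactSpace_of_compactSpace E₁.hom
  have hcl : ∀ x : E₁.left, IsClosed ({x} : Set E₁.left) → Slicing.Locus.EtaleNear f.left x := by
    intro x hx
    obtain ⟨⟨p, hp⟩, hpx⟩ := (pointEquivClosedPoint E₁.hom).surjective ⟨x, hx⟩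
    have hpx : p (IsLocalRing.closedPoint k) = x := congrArg Subtype.val hpx
    let P : 𝟙_ (Over (Spec (CommRingCat.of k))) ⟶ E₁ := Over.homMk p hp
    haveI := EllGal.isIso_transl P⁻¹
    haveI : IsIso (EllGal.transl P⁻¹).left :=
      inferInstanceAs (IsIso ((Over.forget _).map (EllGal.transl P⁻¹)))
    haveI := EllGal.isIso_transl (P ≫ f)
    haveI : IsIso (EllGal.transl (P ≫ f)).left :=
      inferInstanceAs (IsIso ((Over.forget _).map (EllGal.transl (P ≫ f))))
    have hcomp : f = EllGal.transl P⁻¹ ≫ f ≫ EllGal.transl (P ≫ f) := by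
      simp only [EllGal.transl, MonObj.comp_mul, Category.comp_id, MonObj.mul_comp, Category.assoc]
      rw [← Category.assoc f (toUnit E₂), toUnit_unique (f ≫ toUnit E₂) (toUnit E₁)]
      simp only [Category.id_comp, ← Category.assoc, MonObj.comp_mul]
      rw [toUnit_unique ((𝟙 E₁ * toUnit E₁ ≫ P⁻¹) ≫ toUnit E₁) (toUnit E₁), GrpObj.comp_inv, GrpObj.inv_comp,
        Category.assoc, _root_.mul_assoc, inv_mul_cancel, _root_.mul_one]
    have hP : P ≫ EllGal.transl P⁻¹ = η[E₁] := by
      rw [EllGal.transl, MonObj.comp_mul, Category.comp_id, ← Category.assoc,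
        toUnit_unique (P ≫ toUnit E₁) (𝟙 _), Category.id_comp, mul_inv_cancel, MonObj.one_eq_one]
    have hx0 : (EllGal.transl P⁻¹).left x = η[E₁].left (IsLocalRing.closedPoint k) := by
      rw [← hpx]
      exact (Scheme.Hom.comp_apply p (EllGal.transl P⁻¹).left _).symm.trans
        (congrArg (fun q : 𝟙_ (Over (Spec (CommRingCat.of k))) ⟶ E₁ =>
          (q.left : Spec (CommRingCat.of k) ⟶ E₁.left) (IsLocalRing.closedPoint k)) hP)
    obtain ⟨O, hO, hOe⟩ := h
    have : Slicing.Locus.EtaleNear (f ≫ EllGal.transl (P ≫ f)).left (η[E₁].left (IsLocalRing.closedPoint k)) := by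
      refine ⟨O, hO, ?_⟩
      rw [Over.comp_left, ← Category.assoc]
      exact MorphismProperty.comp_mem @Etale _ _ hOe inferInstance
    rw [← hx0, ← Slicing.Locus.etaleNear_precomp_iff, ← Over.comp_left, ← hcomp] at this
    exact this
  intro x
  obtain ⟨y, hy, hyc⟩ := IsClosed.exists_closed_singleton (isClosed_closure (s := ({x} : Set E₁.left)))
    ((Set.singleton_nonempty x).mono subset_closure)
  exact (specializes_iff_mem_closure.2 hy).mem_open (Slicing.Locus.isOpen_etaleNear f.left) (hcl y hyc)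

variable {E₁ E₂ : Over (Spec (CommRingCat.of k))} [GrpObj E₁] [GrpObj E₂]
    [IsIntegral E₁.left] [IsProper E₁.hom] [Smooth E₁.hom]
    [IsIntegral E₂.left] [IsProper E₂.hom] [Smooth E₂.hom]

/-- A tangent vector at the unit which detects etale homomorphisms. -/
theorem exists_tangent (hE₁ : topologicalKrullDim E₁.left = 1) (hE₂ : topologicalKrullDim E₂.left = 1) :
    ∃ v : _root_.LieS.dpt k (𝟙 (Spec (CommRingCat.of k))) ⟶ E₁,
      ∀ (f : E₁ ⟶ E₂) [IsMonHom f], Etale f.left ↔ v ≫ f ≠ 1 := by
  let s : Spec (CommRingCat.of k) := IsLocalRing.closedPoint k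
  let x := η[E₁].left s
  have hclosed : ∀ {E : Over (Spec (CommRingCat.of k))} [GrpObj E] [IsSeparated E.hom],
      IsClosed ({η[E].left s} : Set E.left) := by
    intro E _ _
    haveI := isClosedImmersion_of_comp_eq_id E.hom η[E].left (Over.w η[E])
    have hr := η[E].left.isClosedEmbedding.isClosed_range
    haveI : Subsingleton ↥(𝟙_ (Over (Spec (CommRingCat.of k)))).left :=
      inferInstanceAs (Subsingleton (PrimeSpectrum k))
    haveI : Nonempty ↥(𝟙_ (Over (Spec (CommRingCat.of k)))).left :=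
      inferInstanceAs (Nonempty (PrimeSpectrum k))
    rwa [show Set.range η[E].left = {η[E].left s} from ?_] at hr
    exact Set.range_eq_singleton fun y => congrArg _ (Subsingleton.elim y (IsLocalRing.closedPoint k : PrimeSpectrum k))
  haveI hR₁ : IsDiscreteValuationRing (E₁.left.presheaf.stalk x) :=
    SmoothCurve.Stalk.isDiscreteValuationRing_stalk E₁.hom hE₁.le hclosed
      (SmoothCurve.Stalk.ne_genericPoint_of_isClosed (by rw [hE₁]; exact one_ne_zero) hclosed)
  let ε : Spec (CommRingCat.of k) ⟶ E₁.left := η[E₁].left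
  let π : E₁.left.presheaf.stalk x ⟶ CommRingCat.of k := Scheme.stalkClosedPointTo ε
  have hπ : Spec.map π ≫ E₁.left.fromSpecStalk x = ε := Scheme.Spec_stalkClosedPointTo_fromSpecStalk ε
  let κ : CommRingCat.of k ⟶ E₁.left.presheaf.stalk x := Spec.preimage (E₁.left.fromSpecStalk x ≫ E₁.hom)
  have hκ : Spec.map κ = E₁.left.fromSpecStalk x ≫ E₁.hom := Spec.map_preimage _
  have hεE : ε ≫ E₁.hom = 𝟙 _ := Over.w η[E₁]
  have hπκ : κ ≫ π = 𝟙 _ := Spec.map_injective (by
    rw [Spec.map_comp, hκ, ← Category.assoc, hπ, hεE, Spec.map_id])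
  obtain ⟨g, hg₁, hg₂, hg₃⟩ := exists_taylor κ.hom π.hom (fun a => congr($hπκ a))
  let z : CommRingCat.of k ⟶ CommRingCat.of (DualNumber k) := CommRingCat.ofHom (algebraMap k (DualNumber k))
  have hgκ : κ ≫ CommRingCat.ofHom g = z := by
    refine CommRingCat.hom_ext (RingHom.ext fun a => ?_)
    exact (hg₂ a).trans (TrivSqZeroExt.algebraMap_eq_inl' k k k a).symm
  let g' : E₁.left.presheaf.stalk x ⟶ CommRingCat.of (DualNumber k) := CommRingCat.ofHom g
  have hw : (Spec.map g' ≫ E₁.left.fromSpecStalk x) ≫ E₁.hom =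
      (_root_.LieS.dpt k (𝟙 (Spec (CommRingCat.of k)))).hom := by
    rw [Category.assoc, ← hκ, ← Spec.map_comp, hgκ]
    exact (Category.comp_id _).symm
  let v : _root_.LieS.dpt k (𝟙 (Spec (CommRingCat.of k))) ⟶ E₁ := Over.homMk _ hw
  refine ⟨v, fun f _ => ?_⟩
  let y := η[E₂].left s
  have hxy : f.left x = y := by
    show f.left (η[E₁].left s) = η[E₂].left s
    rw [← Scheme.Hom.comp_apply, ← Over.comp_left, IsMonHom.one_hom]
  haveI hR₂ : IsDiscreteValuationRing (E₂.left.presheaf.stalk (f.left x)) :=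
    hxy ▸ SmoothCurve.Stalk.isDiscreteValuationRing_stalk E₂.hom hE₂.le hclosed
      (SmoothCurve.Stalk.ne_genericPoint_of_isClosed (by rw [hE₂]; exact one_ne_zero) hclosed)
  let ψ : E₂.left.presheaf.stalk (f.left x) ⟶ E₁.left.presheaf.stalk x := f.left.stalkMap x
  let π₂ : E₂.left.presheaf.stalk (f.left x) ⟶ CommRingCat.of k := ψ ≫ π
  have hπ₂ : Spec.map π₂ ≫ E₂.left.fromSpecStalk (f.left x) = η[E₂].left := by
    rw [Spec.map_comp, Category.assoc, Scheme.SpecMap_stalkMap_fromSpecStalk, ← Category.assoc, hπ]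
    exact congrArg Over.Hom.left (IsMonHom.one_hom (f := f))
  let κ₂ : CommRingCat.of k ⟶ E₂.left.presheaf.stalk (f.left x) :=
    Spec.preimage (E₂.left.fromSpecStalk (f.left x) ≫ E₂.hom)
  have hκ₂ : κ₂ ≫ ψ = κ := Spec.map_injective (by
    rw [Spec.map_comp, show Spec.map κ₂ = _ from Spec.map_preimage _, hκ,
      Scheme.SpecMap_stalkMap_fromSpecStalk_assoc, Over.w])
  have hres : ∀ r, r - κ₂.hom (π₂.hom r) ∈ IsLocalRing.maximalIdeal (E₂.left.presheaf.stalk (f.left x)) := fun r => by
    refine IsLocalRing.le_maximalIdeal (RingHom.ker_ne_top π₂.hom) ?_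
    rw [RingHom.mem_ker, map_sub, sub_eq_zero]
    show _ = π.hom (ψ.hom (κ₂.hom (π₂.hom r)))
    rw [show ψ.hom (κ₂.hom (π₂.hom r)) = κ.hom (π₂.hom r) from congr($hκ₂ (π₂.hom r))]
    exact (congr($hπκ (π₂.hom r))).symm
  have hone : (v ≫ f = 1) ↔
      ∀ r ∈ IsLocalRing.maximalIdeal (E₂.left.presheaf.stalk (f.left x)),
        ψ.hom r ∈ IsLocalRing.maximalIdeal (E₁.left.presheaf.stalk x) *
          IsLocalRing.maximalIdeal (E₁.left.presheaf.stalk x) := by
    have hunit : ((1 : _root_.LieS.dpt k (𝟙 (Spec (CommRingCat.of k))) ⟶ E₂)).left =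
        Spec.map (π₂ ≫ z) ≫ E₂.left.fromSpecStalk (f.left x) := by
      rw [Hom.one_def, Spec.map_comp, Category.assoc, hπ₂]
      show (Spec.map z ≫ 𝟙 (Spec (CommRingCat.of k))) ≫ η[E₂].left = Spec.map z ≫ η[E₂].left
      exact congrArg (fun q : Spec (CommRingCat.of (DualNumber k)) ⟶ Spec (CommRingCat.of k) => q ≫ η[E₂].left)
        (Category.comp_id (Spec.map z))
    constructor
    · intro h r hr
      have h3 := congrArg Over.Hom.left h
      rw [hunit, Over.comp_left] at h3
      change (Spec.map g' ≫ E₁.left.fromSpecStalk x) ≫ f.left = _ at h3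
      rw [Category.assoc, ← Scheme.SpecMap_stalkMap_fromSpecStalk, ← Category.assoc, ← Spec.map_comp] at h3
      have h4 := congrArg TrivSqZeroExt.snd
        (congr($(Spec.map_injective ((cancel_mono (E₂.left.fromSpecStalk (f.left x))).1 h3)) r))
      haveI : IsLocalHom ψ.hom := inferInstanceAs (IsLocalHom (f.left.stalkMap x).hom)
      exact (hg₃ _ (map_nonunit ψ.hom r hr)).1 (h4.trans (by simp [z, TrivSqZeroExt.algebraMap_eq_inl']))
    · intro h
      apply Over.OverMorphism.ext
      rw [hunit, Over.comp_left]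
      change (Spec.map g' ≫ E₁.left.fromSpecStalk x) ≫ f.left = _
      rw [Category.assoc, ← Scheme.SpecMap_stalkMap_fromSpecStalk, ← Category.assoc, ← Spec.map_comp]
      congr 2
      refine CommRingCat.hom_ext (RingHom.ext fun r => ?_)
      show g (ψ.hom r) = algebraMap k (DualNumber k) (π₂.hom r)
      have h0 := hres r
      haveI : IsLocalHom ψ.hom := inferInstanceAs (IsLocalHom (f.left.stalkMap x).hom)
      have h1 : (g (ψ.hom (r - κ₂.hom (π₂.hom r)))).snd = 0 := (hg₃ _ (map_nonunit ψ.hom _ h0)).2 (h _ h0)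
      rw [map_sub, show ψ.hom (κ₂.hom (π₂.hom r)) = κ.hom (π₂.hom r) from congr($hκ₂ (π₂.hom r)), map_sub,
        hg₂, TrivSqZeroExt.snd_sub, TrivSqZeroExt.snd_inl, sub_zero] at h1
      ext
      · rw [hg₁, TrivSqZeroExt.algebraMap_eq_inl', TrivSqZeroExt.fst_inl]; rfl
      · rw [h1, TrivSqZeroExt.algebraMap_eq_inl', TrivSqZeroExt.snd_inl]
  rw [ne_eq, hone]
  haveI := Chow.locallyOfFinitePresentation_left f
  algebraize [ψ.hom]
  haveI : IsLocalHom (algebraMap (E₂.left.presheaf.stalk (f.left x)) (E₁.left.presheaf.stalk x)) :=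
    inferInstanceAs (IsLocalHom (f.left.stalkMap x).hom)
  haveI : Algebra.EssFiniteType (E₂.left.presheaf.stalk (f.left x)) (E₁.left.presheaf.stalk x) := by
    rw [← RingHom.essFiniteType_algebraMap, RingHom.algebraMap_toAlgebra]
    exact LocallyOfFiniteType.stalkMap f.left x
  constructor
  · intro he hall
    have h1 : (f.left.stalkMap x).hom.FormallyUnramified :=
      ((Unram.AtPrime.exists_etale_nhd_iff f.left x).1 ⟨⊤, trivial, inferInstance⟩).2
    haveI : Algebra.FormallyUnramified (E₂.left.presheaf.stalk (f.left x)) (E₁.left.presheaf.stalk x) := h1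
    have hle : (IsLocalRing.maximalIdeal (E₂.left.presheaf.stalk (f.left x))).map
        (algebraMap (E₂.left.presheaf.stalk (f.left x)) (E₁.left.presheaf.stalk x)) ≤
        IsLocalRing.maximalIdeal (E₁.left.presheaf.stalk x) * IsLocalRing.maximalIdeal (E₁.left.presheaf.stalk x) :=
      Ideal.map_le_iff_le_comap.2 fun r hr => hall r hr
    have h2 := (Algebra.FormallyUnramified.map_maximalIdeal (R := E₂.left.presheaf.stalk (f.left x))
      (S := E₁.left.presheaf.stalk x)).ge.trans hle
    obtain ⟨t, ht⟩ := IsDiscreteValuationRing.exists_irreducible (E₁.left.presheaf.stalk x)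
    have h3 := h2 (ht.maximalIdeal_eq ▸ Ideal.mem_span_singleton_self t)
    rw [ht.maximalIdeal_eq, Ideal.span_singleton_mul_span_singleton, Ideal.mem_span_singleton] at h3
    exact ht.not_isUnit (isUnit_of_dvd_one ((mul_dvd_mul_iff_left ht.ne_zero).1 (by rwa [_root_.mul_one])))
  · intro hall
    push Not at hall
    obtain ⟨r, hr, hr2⟩ := hall
    refine etale_of_etaleNear f ((Unram.AtPrime.exists_etale_nhd_iff f.left x).2 ⟨?_, ?_⟩)
    · haveI : IsBezout (E₂.left.presheaf.stalk (f.left x)) := inferInstance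
      have hinj : Function.Injective ψ.hom := by
        rw [RingHom.injective_iff_ker_eq_bot]
        by_contra hne
        haveI := RingHom.ker_isPrime ψ.hom
        have h4 : RingHom.ker ψ.hom = IsLocalRing.maximalIdeal _ :=
          IsLocalRing.eq_maximalIdeal (Ideal.IsPrime.isMaximal inferInstance hne)
        rw [← h4, RingHom.mem_ker] at hr
        exact hr2 (hr ▸ zero_mem _)
      show (algebraMap (E₂.left.presheaf.stalk (f.left x)) (E₁.left.presheaf.stalk x)).Flat
      rw [RingHom.flat_algebraMap_iff, Module.Flat.flat_iff_torsion_eq_bot_of_isBezout, eq_bot_iff]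
      rintro m ⟨⟨a, ha⟩, ham⟩
      change ψ.hom a * m = 0 at ham
      exact (mul_eq_zero.1 ham).resolve_left
        ((map_ne_zero_iff _ hinj).2 (nonZeroDivisors.ne_zero ha))
    · haveI : Algebra.IsSeparable (IsLocalRing.ResidueField (E₂.left.presheaf.stalk (f.left x)))
          (IsLocalRing.ResidueField (E₁.left.presheaf.stalk x)) := by
        refine ⟨fun a => ?_⟩
        obtain ⟨r, rfl⟩ := IsLocalRing.residue_surjective a
        have hb : IsLocalRing.residue (E₁.left.presheaf.stalk x) r =
            algebraMap (IsLocalRing.ResidueField (E₂.left.presheaf.stalk (f.left x)))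
              (IsLocalRing.ResidueField (E₁.left.presheaf.stalk x))
              (IsLocalRing.residue _ (κ₂.hom (π.hom r))) := by
          refine (Ideal.Quotient.mk_eq_mk_iff_sub_mem r (ψ.hom (κ₂.hom (π.hom r)))).2 ?_
          refine IsLocalRing.le_maximalIdeal (RingHom.ker_ne_top π.hom) ?_
          rw [RingHom.mem_ker, map_sub, show ψ.hom (κ₂.hom (π.hom r)) = κ.hom (π.hom r) from congr($hκ₂ (π.hom r)),
            show π.hom (κ.hom (π.hom r)) = π.hom r from congr($hπκ (π.hom r)), sub_self]
        rw [hb]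
        exact isSeparable_algebraMap _
      refine RingHom.formallyUnramified_algebraMap.2 (Algebra.FormallyUnramified.of_map_maximalIdeal ?_)
      refine le_antisymm (IsLocalRing.map_maximalIdeal_le _) ?_
      obtain ⟨t, ht⟩ := IsDiscreteValuationRing.exists_irreducible (E₁.left.presheaf.stalk x)
      haveI : IsLocalHom ψ.hom := inferInstanceAs (IsLocalHom (f.left.stalkMap x).hom)
      have h5 := map_nonunit ψ.hom r hr
      rw [ht.maximalIdeal_eq, Ideal.mem_span_singleton] at h5
      obtain ⟨u, hu⟩ := h5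
      have hu' : IsUnit u := by
        by_contra hnu
        refine hr2 (hu ▸ Ideal.mul_mem_mul (ht.maximalIdeal_eq ▸ Ideal.mem_span_singleton_self t) ?_)
        exact (IsLocalRing.mem_maximalIdeal _).2 hnu
      rw [ht.maximalIdeal_eq, Ideal.span_singleton_le_iff_mem]
      have h6 : ψ.hom r ∈ (IsLocalRing.maximalIdeal _).map ψ.hom := Ideal.mem_map_of_mem _ hr
      rw [hu] at h6
      exact (Ideal.mul_unit_mem_iff_mem _ hu').1 h6

end

end Groth.Agent.H4.EllSum
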